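import Mathlib
import Cfsg.Agent.Lib.Spectrum.HuppertClassTwo

/-!
# Fixed-point-free groups of class two over a cyclic central subgroup
-/

namespace Cfsg.Agent.Lib.BlocksChars5.GagolaQuot

/-- A commutative group of automorphisms of a finite abelian group in which only the identity has a
nontrivial fixed point is cyclic. -/
theorem isCyclic_of_fixedPointFree {H V : Type*} [Group H] [Finite H] [CommGroup V] [Finite V] [Nontrivial V]
    [MulDistribMulAction H V] (hc : ∀ a b : H, a * b = b * a)
    (hfix : ∀ (h : H) (v : V), v ≠ 1 → h • v = v → h = 1) : IsCyclic H := by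
  classical
  let ρ : H →* AddMonoid.End (Additive V) :=
    { toFun := fun h => MonoidHom.toAdditive (MulDistribMulAction.toMonoidHom V h)
      map_one' := by ext v; exact congrArg Additive.ofMul (one_smul H v.toMul)
      map_mul' := fun a b => by ext v; exact congrArg Additive.ofMul (mul_smul a b v.toMul) }
  let R : Subring (AddMonoid.End (Additive V)) := Subring.closure (Set.range ρ)
  haveI : Finite (AddMonoid.End (Additive V)) :=
    Finite.of_injective (fun f : AddMonoid.End (Additive V) => (f : Additive V → Additive V))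
      DFunLike.coe_injective
  letI : CommRing R := Subring.closureCommRingOfComm (by
    rintro _ ⟨a, rfl⟩ _ ⟨b, rfl⟩
    rw [← map_mul, ← map_mul, hc])
  haveI : Finite R := Subtype.finite
  haveI : Nontrivial R := by
    obtain ⟨v, hv⟩ := exists_ne (1 : V)
    refine ⟨0, 1, fun e => hv ?_⟩
    have := congrArg (fun f : R => (f : AddMonoid.End (Additive V)) (Additive.ofMul v)) e
    exact (congrArg Additive.toMul this).symm
  obtain ⟨m, hm⟩ := Ideal.exists_maximal R
  let f : H →* R ⧸ m :=
    (Ideal.Quotient.mk m).toMonoidHom.comp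
      (ρ.codRestrict R fun h => Subring.subset_closure ⟨h, rfl⟩)
  haveI := hm.isPrime
  refine isCyclic_of_injective_ringHom (R := R ⧸ m) f ?_
  rw [injective_iff_map_eq_one]
  intro h hh
  by_contra h1
  set r : R := ⟨ρ h, Subring.subset_closure ⟨h, rfl⟩⟩ - 1 with hr
  have hrm : r ∈ m := by
    rw [← Ideal.Quotient.eq_zero_iff_mem, hr, map_sub, map_one, sub_eq_zero]
    exact hh
  have hinj : ∀ w : Additive V, (r : AddMonoid.End (Additive V)) w = 0 → w = 0 := by
    intro w hw
    by_contra hw0
    refine h1 (hfix h w.toMul (fun e => hw0 (congrArg Additive.ofMul e)) ?_)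
    have : ρ h w - w = 0 := hw
    exact congrArg Additive.toMul (sub_eq_zero.mp this)
  have hreg : Function.Injective (fun s : R => r * s) := by
    intro s t e
    have e' : r * (s - t) = 0 := by rw [mul_sub, sub_eq_zero]; exact e
    rw [← sub_eq_zero]
    ext w
    exact hinj _ (congrArg (fun g : R => (g : AddMonoid.End (Additive V)) w) e')
  obtain ⟨s, hs⟩ := (Finite.injective_iff_surjective.mp hreg) 1
  exact hm.ne_top (m.eq_top_of_isUnit_mem hrm (IsUnit.of_mul_eq_one s hs))

/-- The structure of a group in which all elements of order `r` in the sense below lie in a cyclic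
central subgroup `A` containing all commutators and `r`-th powers. -/
theorem class_two_structure {B : Type*} [Group B] [Finite B] (A : Subgroup B) [IsCyclic A]
    (hcent : A ≤ Subgroup.center B) {r : ℕ} (hr : r.Prime)
    (hcomm : ∀ x y : B, x * y * x⁻¹ * y⁻¹ ∈ A) (hpow : ∀ x : B, x ^ r ∈ A)
    (hord : ∀ x : B, x ^ r = 1 → x ∈ A) {x y : B} (hxy : x * y ≠ y * x) :
    r = 2 ∧ (∀ b : B, b ∈ A ∨ x⁻¹ * b ∈ A ∨ y⁻¹ * b ∈ A ∨ (x * y)⁻¹ * b ∈ A) := by
  classical
  have hcA : ∀ a ∈ A, ∀ g : B, g * a = a * g := fun a ha g =>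
    Subgroup.mem_center_iff.mp (hcent ha) g
  have comm_of : ∀ u v : B, v ∈ A → u * v = v * u := fun u v hv => hcA v hv u
  -- commutators have order dividing `r`
  have hzr : ∀ u v : B, (u * v * u⁻¹ * v⁻¹) ^ r = 1 := by
    intro u v
    set c := u * v * u⁻¹ * v⁻¹ with hc
    have hcA' : c ∈ A := hcomm u v
    have key : ∀ n : ℕ, u ^ n * v * (u ^ n)⁻¹ = c ^ n * v := by
      intro n
      induction n with
      | zero => simp
      | succ n ih =>
        calc u ^ (n + 1) * v * (u ^ (n + 1))⁻¹ = u * (u ^ n * v * (u ^ n)⁻¹) * u⁻¹ := by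
              rw [pow_succ']; group
          _ = u * c ^ n * v * u⁻¹ := by rw [ih]; group
          _ = c ^ n * (u * v * u⁻¹) := by rw [hcA _ (pow_mem hcA' n) u]; group
          _ = c ^ (n + 1) * v := by rw [pow_succ, hc]; group
    have := key r
    rw [← hcA (u ^ r) (hpow u) v, mul_inv_cancel_right] at this
    exact right_eq_mul.mp this
  set z := x * y * x⁻¹ * y⁻¹ with hz
  have hz1 : z ≠ 1 := fun e => hxy (by rw [← mul_inv_eq_iff_eq_mul, ← mul_inv_eq_one]; exact e)
  obtain ⟨⟨a, ha⟩, hgen⟩ := IsCyclic.exists_generator (α := A)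
  have hexp : ∀ u ∈ A, ∃ j : ℤ, u = a ^ j := fun u hu => by
    obtain ⟨j, hj⟩ := Subgroup.mem_zpowers_iff.mp (hgen ⟨u, hu⟩)
    exact ⟨j, by simpa using (congrArg Subtype.val hj).symm⟩
  have hac : ∀ g : B, Commute g a := fun g => hcA a ha g
  rcases hr.eq_two_or_odd' with rfl | hodd
  · refine ⟨rfl, ?_⟩
    -- the exponent of the square of an element outside `A` is odd
    have hodd : ∀ u : B, u ∉ A → ∀ j : ℤ, u ^ 2 = a ^ j → Odd j := by
      intro u hu j hj
      rw [← Int.not_even_iff_odd]
      rintro ⟨i, rfl⟩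
      apply hu
      have h1 : (u * (a ^ i)⁻¹) ^ 2 = 1 := by
        rw [((hac u).zpow_right i).inv_right.mul_pow, hj]
        group
      simpa using mul_mem (hord _ h1) (zpow_mem ha i)
    have hcommut : ∀ u v : B, u ∉ A → v ∉ A → u * v = v * u → u⁻¹ * v ∈ A := by
      intro u v hu hv huv
      by_contra hn
      obtain ⟨i, hi⟩ := hexp _ (hpow u)
      obtain ⟨j, hj⟩ := hexp _ (hpow v)
      have h1 : (u⁻¹ * v) ^ 2 = a ^ (-i + j) := by
        rw [(Commute.inv_left (show Commute u v from huv)).mul_pow, inv_pow, hi, hj, zpow_add,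
          zpow_neg]
      have h2 := hodd _ hn _ h1
      have h3 := hodd u hu i hi
      have h4 := hodd v hv j hj
      exact Int.not_odd_iff_even.mpr (h3.neg.add_odd h4) h2
    have huniq : ∀ w ∈ A, w ≠ 1 → w ^ 2 = 1 → w = z := by
      intro w hw hw1 hw2
      have := Fintype.ofFinite A
      have hz2 : z ^ 2 = 1 := hzr x y
      by_contra hne
      have hc := IsCyclic.card_pow_eq_one_le (α := A) (n := 2) two_pos
      have hsub : ({1, ⟨w, hw⟩, ⟨z, hcomm x y⟩} : Finset A) ⊆
          Finset.univ.filter (fun t => t ^ 2 = 1) := by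
        intro t ht
        simp only [Finset.mem_insert, Finset.mem_singleton] at ht
        rcases ht with rfl | rfl | rfl <;> simp [Subtype.ext_iff, hw2, hz2]
      have h3 : ({1, ⟨w, hw⟩, ⟨z, hcomm x y⟩} : Finset A).card = 3 := by
        refine Finset.card_eq_three.mpr ⟨_, _, _, ?_, ?_, ?_, rfl⟩
        · simp [Subtype.ext_iff, Ne.symm hw1]
        · simp [Subtype.ext_iff, Ne.symm hz1]
        · simp [Subtype.ext_iff, hne]
      have := (Finset.card_le_card hsub).trans hc
      omega
    have hxA : x ∉ A := fun h => hxy (comm_of y x h).symm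
    have hyA : y ∉ A := fun h => hxy (comm_of x y h)
    intro b
    by_cases hbA : b ∈ A
    · exact Or.inl hbA
    by_cases hbx : x * b = b * x
    · exact Or.inr (Or.inl (hcommut x b hxA hbA hbx))
    by_cases hby : y * b = b * y
    · exact Or.inr (Or.inr (Or.inl (hcommut y b hyA hbA hby)))
    refine Or.inr (Or.inr (Or.inr ?_))
    have e1 : x * b * x⁻¹ * b⁻¹ = z := huniq _ (hcomm x b)
      (fun e => hbx (by rw [← mul_inv_eq_iff_eq_mul, ← mul_inv_eq_one]; exact e)) (hzr x b)
    have e2 : y * b * y⁻¹ * b⁻¹ = z := huniq _ (hcomm y b)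
      (fun e => hby (by rw [← mul_inv_eq_iff_eq_mul, ← mul_inv_eq_one]; exact e)) (hzr y b)
    have e1' : x * b = z * b * x := by rw [← e1]; group
    have e2' : y * b = z * b * y := by rw [← e2]; group
    have hzc : ∀ g : B, g * z = z * g := hcA z (hcomm x y)
    have hzz : z * z = 1 := by rw [← sq]; exact hzr x y
    have hcom : (x * y) * b = b * (x * y) := by
      calc (x * y) * b = x * (z * b * y) := by rw [mul_assoc, e2']
        _ = z * (x * b) * y := by rw [← mul_assoc, ← mul_assoc, hzc]; group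
        _ = z * z * b * (x * y) := by rw [e1']; group
        _ = b * (x * y) := by rw [hzz, one_mul]
    have hxyA : x * y ∉ A := by
      intro h
      apply hxy
      have := comm_of x (x * y) h
      rw [mul_assoc x y x] at this
      exact mul_left_cancel this
    exact hcommut _ b hxyA hbA hcom
  · exfalso
    have hndvd : ∀ u : B, u ∉ A → ∀ j : ℤ, u ^ r = a ^ j → ¬ (r : ℤ) ∣ j := by
      rintro u hu j hj ⟨i, rfl⟩
      apply hu
      have h1 : (u * (a ^ i)⁻¹) ^ r = 1 := by
        rw [((hac u).zpow_right i).inv_right.mul_pow, hj, inv_pow, ← zpow_natCast (a ^ i), ← zpow_mul,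
          mul_comm i, mul_inv_cancel]
      simpa using mul_mem (hord _ h1) (zpow_mem ha i)
    have hxA : x ∉ A := fun h => hxy (comm_of y x h).symm
    obtain ⟨i, hi⟩ := hexp _ (hpow x)
    obtain ⟨j, hj⟩ := hexp _ (hpow y)
    have : Fact r.Prime := ⟨hr⟩
    have hi0 : (i : ZMod r) ≠ 0 := fun e => hndvd x hxA i hi ((ZMod.intCast_zmod_eq_zero_iff_dvd i r).mp e)
    set m : ℕ := (-(j : ZMod r) / (i : ZMod r)).val with hm
    have hdiv : (r : ℤ) ∣ j + i * m := by
      rw [← ZMod.intCast_zmod_eq_zero_iff_dvd]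
      push_cast
      rw [hm, ZMod.natCast_val, ZMod.cast_id, mul_div_cancel₀ _ hi0, add_neg_cancel]
    set c := x ^ m * y * (x ^ m)⁻¹ * y⁻¹ with hc
    have hcm : c ∈ A := hcomm _ _
    have hpw : (y * x ^ m) ^ r = a ^ (j + i * m) := by
      rw [Spectrum.Huppert.mul_pow_class_two (hcent hcm)
          (by rw [hc]; group : x ^ m * y = c * (y * x ^ m)) r, hj, ← pow_mul, mul_comm m r, pow_mul, hi,
        zpow_add, zpow_mul, zpow_natCast]
      have hrd : r ∣ r * (r - 1) / 2 := by
        obtain ⟨t, ht⟩ := hodd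
        refine ⟨t, ?_⟩
        rw [ht, show 2 * t + 1 - 1 = 2 * t by omega, ← mul_assoc, mul_comm ((2 * t + 1)) 2, mul_assoc,
          Nat.mul_div_cancel_left _ two_pos]
      obtain ⟨t, ht⟩ := hrd
      rw [ht, pow_mul, hzr, one_pow, mul_one]
    have hin : y * x ^ m ∈ A := by
      by_contra hn
      exact hndvd _ hn _ hpw hdiv
    apply hxy
    have h1 := comm_of x _ hin
    rw [mul_assoc y, (Commute.pow_self x m).eq, ← mul_assoc x, ← mul_assoc y] at h1
    exact mul_right_cancel h1

end Cfsg.Agent.Lib.BlocksChars5.GagolaQuot
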