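import Cfsg.Agent.Lib.BlocksChars5.GagolaQuot.Main

/-!
# The exceptional case: `q = 9`, and the main theorem
-/

namespace Cfsg.Agent.Lib.BlocksChars5.GagolaQuot

open Subgroup

variable {L V : Type*} [Group L] [Finite L] [CommGroup V] [Finite V] [MulDistribMulAction L V]
  {p : ℕ} [Fact p.Prime]

theorem Setup.stab_pGroup (S : Setup (L := L) (V := V) p) {v : V} (hv : v ≠ 1) :
    IsPGroup p (MulAction.stabilizer L v) := fun g => by
  obtain ⟨j, hj⟩ := S.stab v g hv g.2
  exact ⟨j, Subtype.ext (by simpa using hj)⟩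

/-- If `u` of order `3` fixes a point, `C` is normal with `3`-subgroups of order at most `3` and at most
four of them, then `|V| = 9`. -/
theorem Setup.card_eq_nine (hp : p = 3) (S : Setup (L := L) (V := V) p) (C : Subgroup L) [C.Normal]
    (A : Subgroup L) (hA : ¬ p ∣ Nat.card A) (hAC : A ≤ C) {u : L} (hu : u ∈ C) (huo : orderOf u = p)
    (hAu : ∀ a ∈ A, a * u = u * a)
    (hsmall : ∀ T : Subgroup L, T ≤ C → IsPGroup p T → Nat.card T ∣ p)
    (hcard : Nat.card C ∣ 24 * Nat.card A) : Nat.card V = 9 := by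
  classical
  subst hp
  haveI := S.nontriv
  haveI := Fintype.ofFinite V
  -- `u` fixes a nonidentity point
  obtain ⟨v0, hv0, hfix0⟩ : ∃ v0 : V, v0 ≠ 1 ∧ u • v0 = v0 := by
    have hT : IsPGroup 3 (zpowers u) := IsPGroup.of_card (n := 1) (by rw [Nat.card_zpowers, huo, pow_one])
    obtain ⟨d, hd⟩ := IsPGroup.iff_card.mp S.pGroup
    have hd0 : d ≠ 0 := by
      rintro rfl
      rw [pow_zero] at hd
      have := Finite.one_lt_card (α := V)
      omega
    have h3 : 3 ∣ Nat.card V := hd ▸ dvd_pow_self 3 hd0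
    obtain ⟨b, hb, hb1⟩ := hT.exists_fixed_point_of_prime_dvd_card_of_fixed_point V h3
      (a := (1 : V)) (fun g => smul_one g)
    exact ⟨b, Ne.symm hb1, hb ⟨u, mem_zpowers u⟩⟩
  -- the stabiliser in `C` of a nonidentity point
  let St : V → Subgroup C := fun v => (MulAction.stabilizer L v).subgroupOf C
  have hSt : ∀ v : V, v ≠ 1 → Nat.card (St v) = 3 := by
    intro v hv
    have hle : Nat.card (St v) ∣ 3 := by
      rw [← card_map_of_injective (K := St v) C.subtype_injective]
      exact hsmall _ (map_subtype_le _) (((S.stab_pGroup hv).comap_of_injective _ C.subtype_injective).map _)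
    obtain ⟨g, hg⟩ := S.trans v0 v hv0 hv
    have hconj : g * u * g⁻¹ ∈ C := Normal.conj_mem ‹C.Normal› u hu g
    have hmem : (⟨g * u * g⁻¹, hconj⟩ : C) ∈ St v := by
      rw [mem_subgroupOf, MulAction.mem_stabilizer_iff, ← hg, ← mul_smul, inv_mul_cancel_right, mul_smul,
        hfix0]
    rcases (Nat.dvd_prime (by norm_num)).mp hle with h | h
    · rw [card_eq_one] at h
      rw [h, mem_bot] at hmem
      have h1 : g * u * g⁻¹ = 1 := congrArg Subtype.val hmem
      have : orderOf (g * u * g⁻¹) = 3 := by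
        rw [← huo]; exact (MulAut.conj g).orderOf_eq u
      rw [h1, orderOf_one] at this
      omega
    · exact h
  have hC3 : 3 ∣ Nat.card C := hSt v0 hv0 ▸ card_subgroup_dvd_card _
  have hSyl : ∀ Q : Sylow 3 C, Nat.card (Q : Subgroup C) = 3 := by
    intro Q
    have hle : Nat.card (Q : Subgroup C) ∣ 3 := by
      rw [← card_map_of_injective (K := (Q : Subgroup C)) C.subtype_injective]
      exact hsmall _ (map_subtype_le _) (Q.isPGroup'.map _)
    rcases (Nat.dvd_prime (by norm_num)).mp hle with h | h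
    · exact absurd h (fun e => by
        have := Q.dvd_card_of_dvd_card hC3
        omega)
    · exact h
  let Φ : V → Sylow 3 C := fun v =>
    if hv : v = 1 then default else
      (IsPGroup.of_card (n := 1) (by rw [pow_one]; exact hSt v hv)).exists_le_sylow.choose
  have hΦ : ∀ v : V, v ≠ 1 → ∀ Q : Sylow 3 C,
      (Φ v = Q ↔ ∀ c ∈ (Q : Subgroup C), (c : L) • v = v) := by
    intro v hv Q
    have heq : ((Φ v) : Subgroup C) = St v := by
      refine (eq_of_le_of_card_ge ?_ (by rw [hSyl, hSt v hv])).symm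
      simp only [Φ, dif_neg hv]
      exact (IsPGroup.of_card (n := 1) (by rw [pow_one]; exact hSt v hv)).exists_le_sylow.choose_spec
    constructor
    · rintro rfl c hc
      rw [heq] at hc
      exact hc
    · intro h
      refine Sylow.ext (heq.trans (eq_of_le_of_card_ge (fun c hc => ?_) ?_).symm)
      · exact h c hc
      · rw [hSyl, hSt v hv]
  -- the fibres
  let Fib : Sylow 3 C → Finset V := fun Q =>
    Finset.univ.filter fun v => v ≠ 1 ∧ ∀ c ∈ (Q : Subgroup C), (c : L) • v = v
  obtain ⟨Q0, -⟩ : ∃ Q : Sylow 3 C, True := ⟨default, trivial⟩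
  have hfib : ∀ Q : Sylow 3 C, (Fib Q).card = (Fib Q0).card := by
    intro Q
    obtain ⟨g, rfl⟩ := MulAction.exists_smul_eq C Q0 Q
    refine (Finset.card_bij (fun v _ => (g : L) • v) ?_ ?_ ?_).symm
    · intro v hv
      simp only [Fib, Finset.mem_filter, Finset.mem_univ, true_and] at hv ⊢
      refine ⟨fun e => hv.1 (MulAction.injective (g : L) (e.trans (smul_one _).symm)), fun c hc => ?_⟩
      rw [Sylow.coe_subgroup_smul] at hc
      obtain ⟨d, hd, rfl⟩ := hc
      show ((g * d * g⁻¹ : C) : L) • (g : L) • v = (g : L) • v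
      push_cast
      rw [← mul_smul, inv_mul_cancel_right, mul_smul, hv.2 d hd]
    · intro a _ b _ e
      exact MulAction.injective _ e
    · intro w hw
      simp only [Fib, Finset.mem_filter, Finset.mem_univ, true_and] at hw ⊢
      refine ⟨(g : L)⁻¹ • w, ⟨fun e => hw.1 (MulAction.injective (g : L)⁻¹ (e.trans (smul_one _).symm)),
        fun d hd => ?_⟩, smul_inv_smul _ _⟩
      have := hw.2 (g * d * g⁻¹) (by rw [Sylow.coe_subgroup_smul]; exact ⟨d, hd, rfl⟩)
      push_cast at this
      rw [mul_smul, mul_smul] at this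
      exact eq_inv_smul_iff.mpr this
  haveI := Fintype.ofFinite (Sylow 3 C)
  have hcount : Nat.card V = Nat.card (Sylow 3 C) * (Fib Q0).card + 1 := by
    have h1 : ((Finset.univ : Finset V).erase 1).card = ∑ Q : Sylow 3 C, (Fib Q).card := by
      rw [Finset.card_eq_sum_card_fiberwise (f := Φ) (t := Finset.univ) (fun _ _ => Finset.mem_univ _)]
      refine Finset.sum_congr rfl fun Q _ => congrArg Finset.card ?_
      ext v
      simp only [Fib, Finset.mem_filter, Finset.mem_erase, Finset.mem_univ, and_true, true_and]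
      exact ⟨fun h => ⟨h.1, (hΦ v h.1 Q).mp h.2⟩, fun h => ⟨h.1, (hΦ v h.1 Q).mpr h.2⟩⟩
    rw [Finset.sum_congr rfl (fun Q _ => hfib Q), Finset.sum_const, smul_eq_mul,
      Finset.card_erase_of_mem (Finset.mem_univ _), Finset.card_univ, Finset.card_univ] at h1
    have := Finite.one_lt_card (α := V)
    simp only [Nat.card_eq_fintype_card] at this ⊢
    omega
  -- the fixed points form a subgroup
  obtain ⟨d, hd⟩ := IsPGroup.iff_card.mp S.pGroup
  obtain ⟨e, he⟩ : ∃ e, (Fib Q0).card + 1 = 3 ^ e := by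
    let W : Subgroup V :=
      { carrier := {v | ∀ c ∈ (Q0 : Subgroup C), (c : L) • v = v}
        one_mem' := fun c _ => smul_one _
        mul_mem' := fun {a b} ha hb c hc => by rw [smul_mul', ha c hc, hb c hc]
        inv_mem' := fun {a} ha c hc => by rw [smul_inv', ha c hc] }
    have h1 : Nat.card W = (Fib Q0).card + 1 := by
      have e1 : insert 1 (Fib Q0) = Finset.univ.filter (fun v => v ∈ W) := by
        ext v
        simp only [Fib, Finset.mem_insert, Finset.mem_filter, Finset.mem_univ, true_and]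
        constructor
        · rintro (rfl | h)
          · exact one_mem W
          · exact h.2
        · intro h
          by_cases hv : v = 1
          · exact Or.inl hv
          · exact Or.inr ⟨hv, h⟩
      rw [Nat.card_eq_fintype_card, Fintype.card_subtype, ← e1, Finset.card_insert_of_notMem]
      simp [Fib]
    obtain ⟨e, he⟩ := IsPGroup.iff_card.mp (S.pGroup.to_subgroup W)
    exact ⟨e, h1.symm.trans he⟩
  -- the number of Sylow subgroups
  have hn : Nat.card (Sylow 3 C) = 4 := by
    have hne1 : Nat.card (Sylow 3 C) ≠ 1 := by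
      intro h1
      haveI : Subsingleton (Sylow 3 C) := (Nat.card_eq_one_iff_unique.mp h1).1
      haveI := Sylow.characteristic_of_subsingleton Q0
      haveI : ((Q0 : Subgroup C).map C.subtype).Normal := ConjAct.normal_of_characteristic_of_normal
      have := S.core _ inferInstance (Q0.isPGroup'.map C.subtype)
      rw [Subgroup.map_eq_bot_iff_of_injective _ C.subtype_injective] at this
      have h := hSyl Q0
      rw [this, Subgroup.card_bot] at h
      omega
    have hmod := card_sylow_modEq_one 3 C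
    -- a Sylow subgroup containing `u`
    have hTp : IsPGroup 3 (zpowers (⟨u, hu⟩ : C)) :=
      IsPGroup.of_card (n := 1) (by rw [Nat.card_zpowers, Subgroup.orderOf_mk, huo, pow_one])
    obtain ⟨Q, hQ⟩ := hTp.exists_le_sylow
    have hQeq : zpowers (⟨u, hu⟩ : C) = (Q : Subgroup C) :=
      eq_of_le_of_card_ge hQ (by rw [hSyl, Nat.card_zpowers, Subgroup.orderOf_mk, huo])
    have hAN : A.subgroupOf C ≤ normalizer ((Q : Subgroup C) : Set C) := by
      refine le_trans (fun a ha => ?_) (centralizer_le_normalizer _)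
      rw [← hQeq, mem_centralizer_iff]
      intro b hb
      obtain ⟨i, rfl⟩ := mem_zpowers_iff.mp hb
      have h1 : Commute a (⟨u, hu⟩ : C) := Subtype.ext (hAu a ha)
      exact (h1.zpow_right i).eq.symm
    have hdvd : Nat.card A * 3 ∣ Nat.card (normalizer ((Q : Subgroup C) : Set C)) := by
      refine Nat.Coprime.mul_dvd_of_dvd_of_dvd ?_ ?_ ?_
      · exact ((Fact.out : Nat.Prime 3).coprime_iff_not_dvd.mpr hA).symm
      · rw [← Nat.card_congr (subgroupOfEquivOfLe hAC).toEquiv]
        exact card_dvd_of_le hAN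
      · exact (hSyl Q).symm.dvd.trans (card_dvd_of_le le_normalizer)
    have h24 : Nat.card (Sylow 3 C) * (Nat.card A * 3) ∣ 8 * (Nat.card A * 3) := by
      rw [show 8 * (Nat.card A * 3) = 24 * Nat.card A by ring]
      refine dvd_trans ?_ hcard
      rw [Sylow.card_eq_index_normalizer Q, ← index_mul_card (normalizer ((Q : Subgroup C) : Set C))]
      exact mul_dvd_mul_left _ hdvd
    have h8 : Nat.card (Sylow 3 C) ∣ 8 :=
      Nat.dvd_of_mul_dvd_mul_right (Nat.mul_pos Nat.card_pos three_pos) h24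
    have hle : Nat.card (Sylow 3 C) ≤ 8 := Nat.le_of_dvd (by norm_num) h8
    unfold Nat.ModEq at hmod
    interval_cases h : Nat.card (Sylow 3 C) <;> simp_all
  rw [hn] at hcount
  rw [hd] at hcount ⊢
  have h4 : 3 ^ d + 3 = 4 * 3 ^ e := by omega
  have he1 : e ≠ 0 := fun e0 => by
    subst e0
    have hF : (Fib Q0).card = 0 := by simpa using he
    rw [hF] at hcount
    have := Finite.one_lt_card (α := V)
    omega
  by_contra hne
  rcases Nat.lt_or_ge e 2 with h2 | h2
  · obtain rfl : e = 1 := by omega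
    exact hne (by rw [pow_one] at h4; omega)
  · have h9 : 3 ^ 2 ∣ 3 ^ e := pow_dvd_pow 3 h2
    have hd2 : 2 ≤ d := by
      by_contra hd2
      have : 3 ^ d ≤ 3 ^ 1 := Nat.pow_le_pow_right three_pos (by omega)
      have := Nat.le_of_dvd (pow_pos three_pos e) h9
      omega
    have h9' : 3 ^ 2 ∣ 3 ^ d := pow_dvd_pow 3 hd2
    omega

/-- The main theorem. -/
theorem Setup.main [Group.IsSolvable L] (S : Setup (L := L) (V := V) p) :
    Cfsg.HasNormalPComplement p L ∧ ∀ P : Sylow p L, IsMulCommutative (P : Subgroup L) := by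
  classical
  obtain ⟨A, hAn, hAc, hmax⟩ := exists_maximal_comm_normal (L := L)
  haveI := hAn
  have hA : ¬ p ∣ Nat.card A := S.not_dvd_of_comm A hAc
  haveI := S.isCyclic A hA hAc
  set C := centralizer (A : Set L) with hC
  haveI : C.Normal := normal_centralizer
  have hAC : A ≤ C := fun a ha => mem_centralizer_iff.mpr fun b hb => hAc b hb a ha
  have hLC : ∀ x y : L, x * y * x⁻¹ * y⁻¹ ∈ C := by
    intro x y
    obtain ⟨⟨a, ha⟩, hgen⟩ := IsCyclic.exists_generator (α := A)
    have hconj : ∀ g : L, ∃ i : ℤ, g * a * g⁻¹ = a ^ i := fun g => by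
      obtain ⟨i, hi⟩ := mem_zpowers_iff.mp (hgen ⟨_, Normal.conj_mem hAn a ha g⟩)
      exact ⟨i, by simpa using (congrArg Subtype.val hi).symm⟩
    obtain ⟨i, hi⟩ := hconj x
    obtain ⟨j, hj⟩ := hconj y
    have hxy : (x * y) * a * (x * y)⁻¹ = (y * x) * a * (y * x)⁻¹ := by
      rw [show (x * y) * a * (x * y)⁻¹ = x * (y * a * y⁻¹) * x⁻¹ by group,
        show (y * x) * a * (y * x)⁻¹ = y * (x * a * x⁻¹) * y⁻¹ by group, hi, hj, ← conj_zpow, ← conj_zpow,
        hi, hj, ← zpow_mul, ← zpow_mul, mul_comm]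
    have hca : (x * y * x⁻¹ * y⁻¹) * a = a * (x * y * x⁻¹ * y⁻¹) := by
      rw [← mul_inv_eq_iff_eq_mul]
      calc x * y * x⁻¹ * y⁻¹ * a * (x * y * x⁻¹ * y⁻¹)⁻¹
          = (x * y) * ((y * x)⁻¹ * a * (y * x)) * (x * y)⁻¹ := by group
        _ = a := by
          have h2 : ∀ t : ℤ, (x * y) * a ^ t * (x * y)⁻¹ = (y * x) * a ^ t * (y * x)⁻¹ := fun t => by
            rw [← conj_zpow, ← conj_zpow, hxy]
          obtain ⟨t, ht⟩ := hconj (y * x)⁻¹
          rw [inv_inv] at ht
          rw [ht, h2, ← ht]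
          group
    refine mem_centralizer_iff.mpr fun b hb => ?_
    obtain ⟨t, ht⟩ := mem_zpowers_iff.mp (hgen ⟨b, hb⟩)
    have hb' : b = a ^ t := by simpa using (congrArg Subtype.val ht).symm
    rw [hb']
    exact ((show Commute a (x * y * x⁻¹ * y⁻¹) from hca.symm).zpow_left t).eq
  by_cases hCp : ¬ p ∣ Nat.card C
  · exact of_commutator_le C hCp hLC
  rw [not_not] at hCp
  obtain ⟨⟨u, hu⟩, huo⟩ := exists_prime_orderOf_dvd_card' (G := C) p hCp
  rw [Subgroup.orderOf_mk] at huo
  have huA : ¬ C ≤ A := fun h => not_dvd_orderOf hA (h hu) (huo ▸ dvd_rfl)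
  obtain ⟨B, r, hr, hB, -, hBA⟩ := exists_layer A C hAc le_rfl huA
  obtain ⟨hr2, hBp, ⟨x, hx, y, hy, hxy⟩, hcases0⟩ := S.layer_structure hAc hmax hr hB hBA
  subst hr2
  have hcases := hcases0 x hx y hy hxy
  obtain ⟨hBn, hAB, hBC, hBcomm, hBsq⟩ := hB
  haveI := hBn
  have hcen : ∀ a ∈ A, ∀ g ∈ C, g * a = a * g := fun a ha g hg => (mem_centralizer_iff.mp hg a ha).symm
  have hxA : x ∉ A := fun h => hxy (hcen x h y (hBC hy)).symm
  have hyA : y ∉ A := fun h => hxy (hcen y h x (hBC hx))
  -- elements of `C` centralising `B` lie in `A`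
  have hE : ∀ c ∈ C, (∀ b ∈ B, c * b = b * c) → c ∈ A := by
    let E := C ⊓ centralizer (B : Set L)
    haveI : (centralizer (B : Set L)).Normal := normal_centralizer
    haveI : E.Normal := Subgroup.normal_inf_normal _ _
    suffices E ≤ A from fun c hc h => this ⟨hc, mem_centralizer_iff.mpr fun b hb => (h b hb).symm⟩
    by_contra hEA
    obtain ⟨B2, r2, hr2, hB2, hB2E, hB2A⟩ := exists_layer A E hAc inf_le_left hEA
    have hr2' : r2 = 2 := (S.layer_structure hAc hmax hr2 hB2 hB2A).1
    subst hr2'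
    obtain ⟨hB2n, hAB2, hB2C, hB2comm, hB2sq⟩ := hB2
    have hB2cB : ∀ e ∈ B2, ∀ b ∈ B, e * b = b * e := by
      intro e he b hb
      obtain ⟨e', he', a, ha, rfl⟩ := mem_sup_of_normal_right.mp (hB2E he)
      have h1 : b * e' = e' * b := mem_centralizer_iff.mp he'.2 b hb
      rw [mul_assoc, ← hcen a ha b (hBC hb), ← mul_assoc, ← h1, mul_assoc]
    haveI := hB2n
    have hB3 : Layer A 2 (B ⊔ B2) := by
      refine ⟨inferInstance, le_sup_of_le_left hAB, sup_le hBC hB2C, ?_, ?_⟩
      · intro s hs t ht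
        obtain ⟨b, hb, e, he, rfl⟩ := mem_sup_of_normal_right.mp hs
        obtain ⟨b', hb', e', he', rfl⟩ := mem_sup_of_normal_right.mp ht
        rw [← QuotientGroup.eq_one_iff]
        have hbb := (QuotientGroup.eq_one_iff _).mpr (hBcomm b hb b' hb')
        have hee := (QuotientGroup.eq_one_iff _).mpr (hB2comm e he e' he')
        simp only [QuotientGroup.mk_mul, QuotientGroup.mk_inv, mul_inv_eq_iff_eq_mul, one_mul] at hbb hee
        simp only [QuotientGroup.mk_mul, QuotientGroup.mk_inv, mul_inv_eq_iff_eq_mul, one_mul]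
        have h1 : Commute (b : L ⧸ A) e' := (congrArg QuotientGroup.mk (hB2cB e' he' b hb)).symm
        have h2 : Commute (b' : L ⧸ A) e := (congrArg QuotientGroup.mk (hB2cB e he b' hb')).symm
        exact ((show Commute (b : L ⧸ A) b' from hbb).mul_right h1).mul_left
          (h2.symm.mul_right (show Commute (e : L ⧸ A) e' from hee))
      · intro s hs
        obtain ⟨b, hb, e, he, rfl⟩ := mem_sup_of_normal_right.mp hs
        rw [(show Commute b e from (hB2cB e he b hb).symm).mul_pow]
        exact mul_mem (hBsq b hb) (hB2sq e he)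
    obtain ⟨-, -, -, h3⟩ := S.layer_structure hAc hmax Nat.prime_two hB3
      (fun h => hBA (le_sup_left.trans h))
    apply hB2A
    intro e he
    have := h3 x (le_sup_left (b := B2) hx) y (le_sup_left (b := B2) hy) hxy e (le_sup_right (a := B) he)
    have hxe : x * e = e * x := (hB2cB e he x hx).symm
    have hye : y * e = e * y := (hB2cB e he y hy).symm
    rcases this with h | h | h | h
    · exact h
    · exfalso
      apply hxy
      have h1 := hcen _ h y (hBC hy)
      have e1 : y * x⁻¹ = x⁻¹ * y :=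
        mul_right_cancel (b := e) (by rw [mul_assoc, h1, mul_assoc, ← hye, ← mul_assoc])
      exact inv_mul_eq_iff_eq_mul.mp (by rw [← mul_assoc, ← e1, inv_mul_cancel_right] : x⁻¹ * (y * x) = y) |>.symm
    · exfalso
      apply hxy
      have h1 := hcen _ h x (hBC hx)
      have e1 : x * y⁻¹ = y⁻¹ * x :=
        mul_right_cancel (b := e) (by rw [mul_assoc, h1, mul_assoc, ← hxe, ← mul_assoc])
      exact (inv_mul_eq_iff_eq_mul.mp (by rw [← mul_assoc, ← e1, inv_mul_cancel_right] : y⁻¹ * (x * y) = x))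
    · exfalso
      apply hxy
      have h1 := hcen _ h x (hBC hx)
      have e1 : x * (x * y)⁻¹ = (x * y)⁻¹ * x :=
        mul_right_cancel (b := e) (by rw [mul_assoc, h1, mul_assoc, ← hxe, ← mul_assoc])
      have e2 : x * y⁻¹ * x⁻¹ = y⁻¹ := by rw [mul_assoc, ← mul_inv_rev, e1]; group
      simpa using ((show Commute x y⁻¹ from mul_inv_eq_iff_eq_mul.mp e2).inv_right).eq
  -- elements of `C` centralising `B/A` lie in `B`
  have hD : ∀ c ∈ C, (∀ b ∈ B, c * b * c⁻¹ * b⁻¹ ∈ A) → c ∈ B := by
    intro c hc hcb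
    set z := x * y * x⁻¹ * y⁻¹ with hz
    have hz1 : z ≠ 1 := fun e => hxy (by rwa [hz, mul_inv_eq_one, mul_inv_eq_iff_eq_mul] at e)
    have hinv : ∀ g ∈ C, ∀ b ∈ B, g * b * g⁻¹ * b⁻¹ ∈ A → (g * b * g⁻¹ * b⁻¹) ^ 2 = 1 := by
      intro g hg b hb ha
      set a := g * b * g⁻¹ * b⁻¹ with hadef
      have h1 : g * b * g⁻¹ = a * b := by rw [hadef]; group
      have h2 : (g * b * g⁻¹) ^ 2 = b ^ 2 := by
        rw [conj_pow, hcen _ (hBsq b hb) g hg, mul_inv_cancel_right]
      rw [h1, (show Commute a b from (hcen a ha b (hBC hb)).symm).mul_pow] at h2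
      exact mul_eq_right.mp h2
    have huniq : ∀ a ∈ A, a ^ 2 = 1 → a = 1 ∨ a = z := by
      intro a ha ha2
      by_contra hcon
      push Not at hcon
      haveI := Fintype.ofFinite A
      have hzA : z ∈ A := hBcomm x hx y hy
      have hz2 : z ^ 2 = 1 := hinv x (hBC hx) y hy hzA
      have hc := IsCyclic.card_pow_eq_one_le (α := A) (n := 2) two_pos
      have hsub : ({1, ⟨a, ha⟩, ⟨z, hzA⟩} : Finset A) ⊆
          Finset.univ.filter (fun t => t ^ 2 = 1) := by
        intro t ht
        simp only [Finset.mem_insert, Finset.mem_singleton] at ht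
        rcases ht with rfl | rfl | rfl <;> simp [Subtype.ext_iff, ha2, hz2]
      have h3 : ({1, ⟨a, ha⟩, ⟨z, hzA⟩} : Finset A).card = 3 := by
        refine Finset.card_eq_three.mpr ⟨_, _, _, ?_, ?_, ?_, rfl⟩
        · simp [Subtype.ext_iff, Ne.symm hcon.1]
        · simp [Subtype.ext_iff, Ne.symm hz1]
        · simp [Subtype.ext_iff, hcon.2]
      have := (Finset.card_le_card hsub).trans hc
      omega
    have hzA : z ∈ A := hBcomm x hx y hy
    have hzz : z * z = 1 := by rw [← sq]; exact hinv x (hBC hx) y hy hzA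
    have hzc : ∀ g ∈ C, g * z = z * g := hcen z hzA
    have exy : x * y * x⁻¹ = z * y := by rw [hz]; group
    have eyx : y * x * y⁻¹ = z * x := by
      have hzi : z⁻¹ = z := inv_eq_of_mul_eq_one_right hzz
      calc y * x * y⁻¹ = z⁻¹ * x := by rw [hz]; group
        _ = z * x := by rw [hzi]
    -- match the action of `c` by an element of `B`
    obtain ⟨b, hb, hbx, hby⟩ : ∃ b ∈ B, b * x * b⁻¹ = c * x * c⁻¹ ∧ b * y * b⁻¹ = c * y * c⁻¹ := by
      have ex : c * x * c⁻¹ = (c * x * c⁻¹ * x⁻¹) * x := by group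
      have ey : c * y * c⁻¹ = (c * y * c⁻¹ * y⁻¹) * y := by group
      rcases huniq _ (hcb x hx) (hinv c hc x hx (hcb x hx)) with h1 | h1 <;>
        rcases huniq _ (hcb y hy) (hinv c hc y hy (hcb y hy)) with h2 | h2 <;>
        rw [ex, ey, h1, h2]
      · exact ⟨1, one_mem _, by group, by group⟩
      · exact ⟨x, hx, by group, exy⟩
      · exact ⟨y, hy, eyx, by group⟩
      · refine ⟨y * x, mul_mem hy hx, ?_, ?_⟩
        · calc y * x * x * (y * x)⁻¹ = y * x * y⁻¹ := by group
            _ = z * x := eyx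
        · calc y * x * y * (y * x)⁻¹ = y * (x * y * x⁻¹) * y⁻¹ := by group
            _ = z * y := by rw [exy, ← mul_assoc y, hzc y (hBC hy)]; group
    have hbc : b⁻¹ * c ∈ A := by
      refine hE _ (mul_mem (inv_mem (hBC hb)) hc) fun w hw => ?_
      have key : ∀ t : L, b * t * b⁻¹ = c * t * c⁻¹ → b⁻¹ * c ∈ centralizer ({t} : Set L) := by
        intro t ht
        rw [mem_centralizer_singleton_iff]
        calc b⁻¹ * c * t = b⁻¹ * (c * t * c⁻¹) * c := by group
          _ = t * (b⁻¹ * c) := by rw [← ht]; group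
      have h1 := mem_centralizer_singleton_iff.mp (key x hbx)
      have h2 := mem_centralizer_singleton_iff.mp (key y hby)
      have hAcomm : ∀ a ∈ A, b⁻¹ * c * a = a * (b⁻¹ * c) :=
        fun a ha => hcen a ha _ (mul_mem (inv_mem (hBC hb)) hc)
      rcases hcases w hw with h | h | h | h
      · exact hAcomm w h
      · have := (show Commute (b⁻¹ * c) x from h1).mul_right (hAcomm _ h)
        rwa [mul_inv_cancel_left] at this
      · have := (show Commute (b⁻¹ * c) y from h2).mul_right (hAcomm _ h)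
        rwa [mul_inv_cancel_left] at this
      · have := ((show Commute (b⁻¹ * c) x from h1).mul_right h2).mul_right (hAcomm _ h)
        rwa [mul_inv_cancel_left] at this
    simpa using mul_mem hb (hAB hbc)
  -- the action on the three nontrivial cosets
  set Bb := B.map (QuotientGroup.mk' A) with hBb
  haveI : Bb.Normal := hBn.map _ (QuotientGroup.mk'_surjective A)
  let X := {q : L ⧸ A // q ∈ Bb ∧ q ≠ 1}
  let xb : X := ⟨x, mem_map_of_mem _ hx, fun e => hxA ((QuotientGroup.eq_one_iff x).mp e)⟩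
  let yb : X := ⟨y, mem_map_of_mem _ hy, fun e => hyA ((QuotientGroup.eq_one_iff y).mp e)⟩
  have hxyA : x * y ∉ A := fun h => hxy (by
    have := hcen _ h x (hBC hx)
    rw [mul_assoc x y x] at this
    exact mul_left_cancel this)
  let zb : X := ⟨(x * y : L), mem_map_of_mem _ (mul_mem hx hy),
    fun e => hxyA ((QuotientGroup.eq_one_iff _).mp e)⟩
  have hX : ∀ q : X, q = xb ∨ q = yb ∨ q = zb := by
    rintro ⟨q, ⟨b, hb, rfl⟩, hq1⟩
    rcases hcases b hb with h | h | h | h
    · exact absurd ((QuotientGroup.eq_one_iff b).mpr h) hq1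
    · exact Or.inl (Subtype.ext (QuotientGroup.eq.mpr h).symm)
    · exact Or.inr (Or.inl (Subtype.ext (QuotientGroup.eq.mpr h).symm))
    · exact Or.inr (Or.inr (Subtype.ext (QuotientGroup.eq.mpr h).symm))
  have hX3 : Nat.card X ≤ 3 := by
    refine le_trans (Nat.card_le_card_of_surjective (![xb, yb, zb]) fun q => ?_) (by simp)
    rcases hX q with rfl | rfl | rfl
    exacts [⟨0, rfl⟩, ⟨1, rfl⟩, ⟨2, rfl⟩]
  letI act : MulAction L X :=
    { smul := fun g q => ⟨(g : L ⧸ A) * q.1 * (g : L ⧸ A)⁻¹,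
        (inferInstance : Bb.Normal).conj_mem q.1 q.2.1 g,
        fun e => q.2.2 (by rwa [mul_inv_eq_one, mul_eq_left] at e)⟩
      one_smul := fun q => Subtype.ext (show ((1 : L) : L ⧸ A) * q.1 * ((1 : L) : L ⧸ A)⁻¹ = q.1 by simp)
      mul_smul := fun g h q => Subtype.ext (show ((g * h : L) : L ⧸ A) * q.1 * ((g * h : L) : L ⧸ A)⁻¹ =
        (g : L ⧸ A) * ((h : L ⧸ A) * q.1 * (h : L ⧸ A)⁻¹) * (g : L ⧸ A)⁻¹ by
          simp [mul_assoc]) }
  let ψ : L →* Equiv.Perm X := MulAction.toPermHom L X
  have hker : ∀ c ∈ C, ψ c = 1 → c ∈ B := by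
    intro c hc h1
    refine hD c hc fun b hb => ?_
    by_cases hbA : b ∈ A
    · rw [hcen b hbA c hc]; simpa [mul_assoc] using one_mem A
    · have := congrArg Subtype.val (Equiv.congr_fun h1
        (⟨b, mem_map_of_mem _ hb, fun e => hbA ((QuotientGroup.eq_one_iff b).mp e)⟩ : X))
      rw [← QuotientGroup.eq_one_iff]
      simp only [QuotientGroup.mk_mul, QuotientGroup.mk_inv, mul_inv_eq_one]
      exact this
  have hperm : Nat.card (Equiv.Perm X) ∣ 6 := by
    rw [Nat.card_perm]
    exact Nat.factorial_dvd_factorial hX3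
  have hrange : ∀ T : Subgroup L, Nat.card (T.map ψ) ∣ 6 := fun T =>
    (card_subgroup_dvd_card _).trans hperm
  -- `p = 3`
  have huB : u ∉ B := fun h => not_dvd_orderOf hBp h (huo ▸ dvd_rfl)
  have hp3 : p = 3 := by
    have h1 : ψ u ≠ 1 := fun h => huB (hker u hu h)
    have h2 : orderOf (ψ u) = p :=
      orderOf_eq_prime (by rw [← map_pow, ← huo, pow_orderOf_eq_one, map_one]) h1
    have h3 : p ∣ 6 := h2 ▸ (_root_.orderOf_dvd_natCard _).trans hperm
    have hple : p ≤ 6 := Nat.le_of_dvd (by norm_num) h3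
    have hp2 : p ≠ 2 := by
      rintro rfl
      set z := x * y * x⁻¹ * y⁻¹ with hz
      have hz1 : z ≠ 1 := fun e => hxy (by rwa [hz, mul_inv_eq_one, mul_inv_eq_iff_eq_mul] at e)
      have hzA : z ∈ A := hBcomm x hx y hy
      have e1 : x * y * x⁻¹ = z * y := by rw [hz]; group
      have e2 : z * z = 1 := by
        have h4 : (z * y) ^ 2 = y ^ 2 := by
          rw [← e1, conj_pow, hcen _ (hBsq y hy) x (hBC hx), mul_inv_cancel_right]
        rw [(show Commute z y from (hcen z hzA y (hBC hy)).symm).mul_pow] at h4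
        rw [← sq]
        exact mul_eq_right.mp h4
      exact not_dvd_orderOf hA hzA ((orderOf_eq_prime (by rw [sq]; exact e2) hz1) ▸ dvd_rfl)
    have hpp : p.Prime := Fact.out
    have := hpp.two_le
    interval_cases p <;> first | rfl | omega | norm_num at hpp
  have hp2 : ¬ p ∣ 2 := by rw [hp3]; norm_num
  have hpdvd : ∀ T : Subgroup L, IsPGroup p T → Nat.card (T.map ψ) ∣ p := by
    intro T hT
    obtain ⟨n, hn⟩ := IsPGroup.iff_card.mp (hT.map ψ)
    have h6 : Nat.card (T.map ψ) ∣ p * 2 := by rw [hp3]; exact hrange T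
    refine Nat.Coprime.dvd_of_dvd_mul_right ?_ h6
    rw [hn]
    exact Nat.Coprime.pow_left n ((Fact.out : p.Prime).coprime_iff_not_dvd.mpr hp2)
  have hTB : ∀ T : Subgroup L, IsPGroup p T → ∀ g ∈ T, g ∈ B → g = 1 := by
    intro T hT g hg hgB
    obtain ⟨k, hk⟩ := hT ⟨g, hg⟩
    obtain ⟨i, -, hi⟩ := (Nat.dvd_prime_pow Fact.out).mp
      (orderOf_dvd_of_pow_eq_one (by simpa using congrArg Subtype.val hk : g ^ p ^ k = 1))
    rcases Nat.eq_zero_or_pos i with rfl | hpos
    · exact orderOf_eq_one_iff.mp (by simpa using hi)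
    · exact absurd (hi ▸ dvd_pow_self p hpos.ne') (not_dvd_orderOf hBp hgB)
  refine ⟨?_, fun P => ⟨⟨fun a b => Subtype.ext ?_⟩⟩⟩
  swap
  · -- commutative Sylow subgroups
    have hc := (hTB P P.isPGroup' _ (a * b * a⁻¹ * b⁻¹ : (P : Subgroup L)).2 (hker _ (hLC a b) ?_))
    · have hc' : (a : L) * b * (a : L)⁻¹ * (b : L)⁻¹ = 1 := hc
      rwa [mul_inv_eq_one, mul_inv_eq_iff_eq_mul] at hc'
    · haveI : IsCyclic ((P : Subgroup L).map ψ) := by
        rcases (Nat.dvd_prime Fact.out).mp (hpdvd P P.isPGroup') with h | h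
        · haveI := (Nat.card_eq_one_iff_unique.mp h).1
          infer_instance
        · exact isCyclic_of_prime_card h
      have hca := IsCyclic.commutative (α := (P : Subgroup L).map ψ)
      have hcm : ψ a * ψ b = ψ b * ψ a := congrArg Subtype.val
        (hca.is_comm.comm ⟨ψ a, mem_map_of_mem ψ a.2⟩ ⟨ψ b, mem_map_of_mem ψ b.2⟩)
      show ψ ((a : L) * b * (a : L)⁻¹ * (b : L)⁻¹) = 1
      rw [map_mul, map_mul, map_mul, map_inv, map_inv, hcm, mul_inv_cancel_right, mul_inv_cancel]
  -- the normal complement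
  have hsmall : ∀ T : Subgroup L, T ≤ C → IsPGroup p T → Nat.card T ∣ p := by
    intro T hTC hT
    have hinj : Function.Injective (ψ.subgroupMap T) := by
      rw [injective_iff_map_eq_one]
      intro t ht
      exact Subtype.ext (hTB T hT t t.2 (hker t (hTC t.2) (congrArg Subtype.val ht)))
    rw [Nat.card_congr (Equiv.ofBijective _ ⟨hinj, ψ.subgroupMap_surjective T⟩)]
    exact hpdvd T hT
  have hAb : Nat.card B = 4 * Nat.card A := by
    have h1 : A.relIndex B * Nat.card A = Nat.card B := by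
      have := relIndex_mul_relIndex ⊥ A B bot_le hAB
      rw [relIndex_bot_left, relIndex_bot_left] at this
      rw [mul_comm, this]
    have h2 : A.relIndex B = Nat.card Bb := by
      rw [hBb, ← relIndex_ker, QuotientGroup.ker_mk']
    have h3 : Nat.card Bb = 4 := by
      have h4 : ((Bb : Set (L ⧸ A))) = {1, (x : L ⧸ A), (y : L ⧸ A), ((x * y : L) : L ⧸ A)} := by
        ext q
        constructor
        · intro hq
          by_cases hq1 : q = 1
          · exact Or.inl hq1
          · rcases hX ⟨q, hq, hq1⟩ with h | h | h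
            · exact Or.inr (Or.inl (congrArg Subtype.val h))
            · exact Or.inr (Or.inr (Or.inl (congrArg Subtype.val h)))
            · exact Or.inr (Or.inr (Or.inr (congrArg Subtype.val h)))
        · rintro (rfl | rfl | rfl | rfl)
          · exact one_mem Bb
          · exact xb.2.1
          · exact yb.2.1
          · exact zb.2.1
      rw [← SetLike.coe_sort_coe, Nat.card_coe_set_eq, h4]
      have d1 : (1 : L ⧸ A) ≠ x := xb.2.2.symm
      have d2 : (1 : L ⧸ A) ≠ y := yb.2.2.symm
      have d3 : (1 : L ⧸ A) ≠ (x * y : L) := zb.2.2.symm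
      have d4 : (x : L ⧸ A) ≠ y := fun e => hxy (by
        have h := hcen _ (QuotientGroup.eq.mp e) x (hBC hx)
        rw [mul_inv_cancel_left, mul_assoc x⁻¹ y x, eq_inv_mul_iff_mul_eq] at h
        exact h)
      have d5 : (x : L ⧸ A) ≠ (x * y : L) := fun e => d2 (by
        rw [QuotientGroup.mk_mul] at e
        exact (left_eq_mul.mp e).symm)
      have d6 : (y : L ⧸ A) ≠ (x * y : L) := fun e => d1 (by
        rw [QuotientGroup.mk_mul] at e
        exact (right_eq_mul.mp e).symm)
      rw [Set.ncard_insert_of_notMem (by rintro (h | h | h); exacts [d1 h, d2 h, d3 h]),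
        Set.ncard_insert_of_notMem (by rintro (h | h); exacts [d4 h, d5 h]), Set.ncard_pair d6]
    rw [← h1, h2, h3]
  have hcardC : Nat.card C ∣ 24 * Nat.card A := by
    set g := ψ.comp C.subtype
    have h1 : Nat.card g.ker ∣ Nat.card B := by
      rw [← card_map_of_injective (K := g.ker) C.subtype_injective]
      refine card_dvd_of_le ?_
      rintro _ ⟨c, hc, rfl⟩
      exact hker c c.2 hc
    have h2 : Nat.card g.range ∣ 6 := (card_subgroup_dvd_card _).trans hperm
    rw [← g.ker.index_mul_card, index_ker, show 24 * Nat.card A = 6 * (4 * Nat.card A) by ring, ← hAb]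
    exact mul_dvd_mul h2 h1
  have hV : Nat.card V = 9 :=
    S.card_eq_nine hp3 C A hA hAC hu huo (fun a ha => (hcen a ha u hu).symm) hsmall hcardC
  have hA2 : 2 ≤ Nat.card A := by
    by_contra hA1
    have : Nat.card A = 1 := by have := Nat.card_pos (α := A); omega
    rw [card_eq_one] at this
    have h := hBcomm x hx y hy
    rw [this, mem_bot, mul_inv_eq_one, mul_inv_eq_iff_eq_mul] at h
    exact hxy h
  have hB8 : Nat.card B = 8 := by
    have := S.card_le hBp
    rw [hV, hAb] at this
    omega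
  -- `|L| = 8 · 3^a`
  obtain ⟨v, hv⟩ := @exists_ne V S.nontriv (1 : V)
  have horb : MulAction.orbit L v = {1}ᶜ := by
    ext w
    constructor
    · rintro ⟨g, rfl⟩ e
      exact hv (MulAction.injective g ((Set.mem_singleton_iff.mp e).trans (smul_one g).symm))
    · exact fun hw => S.trans v w hv hw
  have hcardL := (MulAction.stabilizer L v).index_mul_card
  rw [MulAction.index_stabilizer, horb, Set.ncard_compl, Set.ncard_singleton, hV] at hcardL
  obtain ⟨k, hk⟩ := IsPGroup.iff_card.mp (S.stab_pGroup hv)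
  refine Transfer.PResidual.hasNormalPComplement_of_normal (N := B) hBp
    (IsPGroup.of_card (n := k) (Nat.eq_of_mul_eq_mul_left (show 0 < 8 by norm_num) ?_))
  rw [← hk]
  calc 8 * Nat.card (L ⧸ B) = B.index * Nat.card B := by rw [hB8, mul_comm]; rfl
    _ = Nat.card L := B.index_mul_card
    _ = _ := by omega

end Cfsg.Agent.Lib.BlocksChars5.GagolaQuot
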