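import Mathlib
import Cfsg.Prelude.Def_Transfer
import Cfsg.Agent.Lib.Cores.Basic
import Cfsg.Agent.Lib.Transfer.PResidual
import Cfsg.Agent.Lib.BlocksChars5.GagolaQuot.ClassTwo

/-!
# Solvable linear groups transitive on nonzero vectors with `p`-group stabilisers

If a finite solvable group `L` with `O_p(L) = 1` acts on a finite abelian `p`-group `V`, transitively on
the nonidentity elements and with `p`-groups as stabilisers of these, then `L` has a normal `p`-complement
and abelian Sylow `p`-subgroups.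
-/

namespace Cfsg.Agent.Lib.BlocksChars5.GagolaQuot

open Subgroup

variable {L V : Type*} [Group L] [Finite L] [CommGroup V] [Finite V] [MulDistribMulAction L V]
  (p : ℕ) [Fact p.Prime]

/-- The hypotheses on the action. -/
structure Setup : Prop where
  nontriv : Nontrivial V
  pGroup : IsPGroup p V
  faithful : ∀ g : L, (∀ v : V, g • v = v) → g = 1
  trans : ∀ v w : V, v ≠ 1 → w ≠ 1 → ∃ g : L, g • v = w
  stab : ∀ (v : V) (g : L), v ≠ 1 → g • v = v → ∃ j : ℕ, g ^ p ^ j = 1
  core : ∀ N : Subgroup L, N.Normal → IsPGroup p N → N = ⊥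

variable {p}

theorem Setup.semiregular (S : Setup (L := L) (V := V) p) {x : L} (hx : ¬ p ∣ orderOf x) {v : V}
    (hv : v ≠ 1) (h : x • v = v) : x = 1 := by
  obtain ⟨j, hj⟩ := S.stab v x hv h
  obtain ⟨i, hi, hio⟩ := (Nat.dvd_prime_pow Fact.out).mp (orderOf_dvd_of_pow_eq_one hj)
  rcases Nat.eq_zero_or_pos i with rfl | hpos
  · exact orderOf_eq_one_iff.mp (by simpa using hio)
  · exact absurd (hio ▸ dvd_pow_self p hpos.ne') hx

/-- A commutative normal subgroup has order prime to `p`. -/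
theorem Setup.not_dvd_of_comm (S : Setup (L := L) (V := V) p) (A : Subgroup L) [A.Normal]
    (hc : ∀ a ∈ A, ∀ b ∈ A, a * b = b * a) : ¬ p ∣ Nat.card A := by
  intro hd
  let P : Subgroup L :=
    { carrier := {a | a ∈ A ∧ ∃ j : ℕ, a ^ p ^ j = 1}
      one_mem' := ⟨one_mem _, 0, by simp⟩
      mul_mem' := fun {a b} ha hb => by
        obtain ⟨ha, i, hi⟩ := ha
        obtain ⟨hb, j, hj⟩ := hb
        refine ⟨mul_mem ha hb, i + j, ?_⟩
        rw [(show Commute a b from hc a ha b hb).mul_pow, pow_add, pow_mul, hi, one_pow, one_mul,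
          mul_comm, pow_mul, hj, one_pow]
      inv_mem' := fun {a} ha => by
        obtain ⟨ha, i, hi⟩ := ha
        exact ⟨inv_mem ha, i, by rw [inv_pow, hi, inv_one]⟩ }
  have hPn : P.Normal := ⟨fun a ha g => by
    obtain ⟨ha, i, hi⟩ := ha
    exact ⟨Normal.conj_mem ‹A.Normal› a ha g, i, by rw [conj_pow, hi, mul_one, mul_inv_cancel]⟩⟩
  have hPp : IsPGroup p P := fun a => a.2.2.imp fun i hi => Subtype.ext (by simpa using hi)
  obtain ⟨⟨a, ha⟩, hao⟩ := exists_prime_orderOf_dvd_card' (G := A) p hd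
  rw [Subgroup.orderOf_mk] at hao
  have : a ∈ P := ⟨ha, 1, by rw [pow_one, ← hao, pow_orderOf_eq_one]⟩
  rw [S.core P hPn hPp, mem_bot] at this
  exact (Fact.out : p.Prime).ne_one (by rw [← hao, this, orderOf_one])

theorem not_dvd_orderOf {A : Subgroup L} (hA : ¬ p ∣ Nat.card A) {x : L} (hx : x ∈ A) :
    ¬ p ∣ orderOf x := fun h => hA (h.trans (A.orderOf_dvd_natCard hx))

theorem not_dvd_card_of {A : Subgroup L} (h : ∀ x ∈ A, orderOf x ≠ p) : ¬ p ∣ Nat.card A := by
  intro hd
  obtain ⟨⟨a, ha⟩, hao⟩ := exists_prime_orderOf_dvd_card' (G := A) p hd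
  rw [Subgroup.orderOf_mk] at hao
  exact h a ha hao

theorem Setup.isCyclic (S : Setup (L := L) (V := V) p) (A : Subgroup L) (hA : ¬ p ∣ Nat.card A)
    (hc : ∀ a ∈ A, ∀ b ∈ A, a * b = b * a) : IsCyclic A := by
  haveI := S.nontriv
  refine isCyclic_of_fixedPointFree (V := V)
    (fun a b => Subtype.ext (hc a.1 a.2 b.1 b.2)) fun a v hv h => ?_
  exact Subtype.ext (S.semiregular (not_dvd_orderOf hA a.2) hv h)

/-- A maximal commutative normal subgroup. -/
theorem exists_maximal_comm_normal :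
    ∃ A : Subgroup L, A.Normal ∧ (∀ a ∈ A, ∀ b ∈ A, a * b = b * a) ∧
      ∀ B : Subgroup L, B.Normal → (∀ a ∈ B, ∀ b ∈ B, a * b = b * a) → A ≤ B → B ≤ A := by
  obtain ⟨A, hA⟩ := (Set.toFinite {A : Subgroup L | A.Normal ∧ ∀ a ∈ A, ∀ b ∈ A, a * b = b * a}).exists_maximal
    ⟨⊥, inferInstance, fun a ha b hb => by rw [mem_bot.mp ha, mem_bot.mp hb]⟩
  exact ⟨A, hA.1.1, hA.1.2, fun B h1 h2 h3 => hA.2 ⟨h1, h2⟩ h3⟩

/-- `B` is a normal subgroup between `A` and its centraliser, elementary abelian of exponent `r` over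
`A`. -/
def Layer (A : Subgroup L) (r : ℕ) (B : Subgroup L) : Prop :=
  B.Normal ∧ A ≤ B ∧ B ≤ centralizer (A : Set L) ∧ (∀ x ∈ B, ∀ y ∈ B, x * y * x⁻¹ * y⁻¹ ∈ A) ∧
    ∀ x ∈ B, x ^ r ∈ A

theorem exists_layer [Group.IsSolvable L] (A E : Subgroup L) [A.Normal] [E.Normal]
    (hAc : ∀ a ∈ A, ∀ b ∈ A, a * b = b * a) (hEC : E ≤ centralizer (A : Set L)) (hEA : ¬ E ≤ A) :
    ∃ (B : Subgroup L) (r : ℕ), r.Prime ∧ Layer A r B ∧ B ≤ E ⊔ A ∧ ¬ B ≤ A := by
  classical
  have hex : ∃ n, Cores.derivedIn E n ≤ A := by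
    obtain ⟨n, hn⟩ := Group.IsSolvable.solvable (G := E)
    exact ⟨n, by rw [Cores.derivedIn_eq_map, hn, Subgroup.map_bot]; exact bot_le⟩
  set n := Nat.find hex with hn
  have hn0 : n ≠ 0 := fun e => hEA (by
    have := Nat.find_spec hex
    rwa [← hn, e] at this)
  obtain ⟨i, hi⟩ := Nat.exists_eq_succ_of_ne_zero hn0
  have hspec : ⁅Cores.derivedIn E i, Cores.derivedIn E i⁆ ≤ A := by
    have := Nat.find_spec hex
    rwa [← hn, hi] at this
  have hiA : ¬ Cores.derivedIn E i ≤ A := Nat.find_min hex (by omega)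
  have hDE : Cores.derivedIn E i ≤ E := by
    rw [Cores.derivedIn_eq_map]; exact map_subtype_le _
  haveI := Cores.derivedIn_normal E i
  set D := Cores.derivedIn E i
  set B0 := D ⊔ A with hB0
  have hB0C : B0 ≤ centralizer (A : Set L) := sup_le (hDE.trans hEC)
    (fun a ha => mem_centralizer_iff.mpr fun b hb => hAc b hb a ha)
  have hB0comm : ∀ x ∈ B0, ∀ y ∈ B0, x * y * x⁻¹ * y⁻¹ ∈ A := by
    intro x hx y hy
    obtain ⟨d, hd, a, ha, rfl⟩ := mem_sup_of_normal_right.mp hx
    obtain ⟨e, he, b, hb, rfl⟩ := mem_sup_of_normal_right.mp hy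
    rw [← QuotientGroup.eq_one_iff]
    have h0 := hspec (commutator_mem_commutator hd he)
    rw [← QuotientGroup.eq_one_iff, commutatorElement_def] at h0
    simp only [QuotientGroup.mk_mul, QuotientGroup.mk_inv, (QuotientGroup.eq_one_iff a).mpr ha,
      (QuotientGroup.eq_one_iff b).mpr hb, mul_one] at h0 ⊢
    exact h0
  obtain ⟨d, hd, hdA⟩ := SetLike.not_le_iff_exists.mp hiA
  have hd1 : (d : L ⧸ A) ≠ 1 := fun e => hdA ((QuotientGroup.eq_one_iff d).mp e)
  obtain ⟨r, hr, hrd⟩ := Nat.exists_prime_and_dvd (mt orderOf_eq_one_iff.mp hd1)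
  set b := d ^ (orderOf (d : L ⧸ A) / r) with hb
  have hbo : orderOf (b : L ⧸ A) = r := by
    rw [hb, QuotientGroup.mk_pow, orderOf_pow_orderOf_div (orderOf_pos _).ne' hrd]
  have hcommq : ∀ x ∈ B0, ∀ y ∈ B0, Commute (x : L ⧸ A) y := by
    intro x hx y hy
    show (x : L ⧸ A) * y = y * x
    rw [← mul_inv_eq_iff_eq_mul, ← mul_inv_eq_one]
    have := (QuotientGroup.eq_one_iff _).mpr (hB0comm x hx y hy)
    simpa using this
  let B : Subgroup L :=
    { carrier := {x | x ∈ B0 ∧ x ^ r ∈ A}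
      one_mem' := ⟨one_mem _, by rw [one_pow]; exact one_mem _⟩
      mul_mem' := fun {x y} hx hy => ⟨mul_mem hx.1 hy.1, by
        rw [← QuotientGroup.eq_one_iff, QuotientGroup.mk_pow, QuotientGroup.mk_mul,
          (hcommq x hx.1 y hy.1).mul_pow, ← QuotientGroup.mk_pow, ← QuotientGroup.mk_pow,
          (QuotientGroup.eq_one_iff _).mpr hx.2, (QuotientGroup.eq_one_iff _).mpr hy.2, one_mul]⟩
      inv_mem' := fun {x} hx => ⟨inv_mem hx.1, by rw [inv_pow]; exact inv_mem hx.2⟩ }
  refine ⟨B, r, hr, ⟨⟨fun x hx g => ⟨(inferInstance : B0.Normal).conj_mem x hx.1 g, ?_⟩⟩,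
    fun a ha => ⟨le_sup_right (a := D) ha, pow_mem ha r⟩, fun x hx => hB0C hx.1,
    fun x hx y hy => hB0comm x hx.1 y hy.1, fun x hx => hx.2⟩,
    fun x hx => sup_le_sup_right hDE A hx.1, ?_⟩
  · rw [conj_pow]; exact Normal.conj_mem ‹A.Normal› _ hx.2 g
  · intro hle
    have hbB : b ∈ B := ⟨le_sup_left (b := A) (pow_mem hd _), by
      rw [← QuotientGroup.eq_one_iff, QuotientGroup.mk_pow, ← hbo, pow_orderOf_eq_one]⟩
    have := (QuotientGroup.eq_one_iff b).mpr (hle hbB)
    rw [this, orderOf_one] at hbo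
    exact hr.ne_one hbo.symm

/-- The structure of a layer above a maximal commutative normal subgroup. -/
theorem Setup.layer_structure (S : Setup (L := L) (V := V) p) {A : Subgroup L} [A.Normal]
    (hAc : ∀ a ∈ A, ∀ b ∈ A, a * b = b * a)
    (hmax : ∀ B : Subgroup L, B.Normal → (∀ a ∈ B, ∀ b ∈ B, a * b = b * a) → A ≤ B → B ≤ A)
    {r : ℕ} (hr : r.Prime) {B : Subgroup L} (hB : Layer A r B) (hne : ¬ B ≤ A) :
    r = 2 ∧ (¬ p ∣ Nat.card B) ∧ (∃ x ∈ B, ∃ y ∈ B, x * y ≠ y * x) ∧
      ∀ x ∈ B, ∀ y ∈ B, x * y ≠ y * x → ∀ b ∈ B,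
        b ∈ A ∨ x⁻¹ * b ∈ A ∨ y⁻¹ * b ∈ A ∨ (x * y)⁻¹ * b ∈ A := by
  obtain ⟨hBn, hAB, hBC, hcomm, hpow⟩ := hB
  have hnc : ∃ x ∈ B, ∃ y ∈ B, x * y ≠ y * x := by
    by_contra hcon
    push Not at hcon
    exact hne (hmax B hBn hcon hAB)
  have hA : ¬ p ∣ Nat.card A := S.not_dvd_of_comm A hAc
  have hrp : r ≠ p := by
    rintro rfl
    obtain ⟨x, hx, y, hy, hxy⟩ := hnc
    apply hxy
    set c := x * y * x⁻¹ * y⁻¹ with hc
    have hcA : c ∈ A := hcomm x hx y hy
    have hcr : c ^ r = 1 := by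
      have key : ∀ n : ℕ, x ^ n * y * (x ^ n)⁻¹ = c ^ n * y := by
        intro n
        induction n with
        | zero => simp
        | succ n ih =>
          calc x ^ (n + 1) * y * (x ^ (n + 1))⁻¹ = x * (x ^ n * y * (x ^ n)⁻¹) * x⁻¹ := by
                rw [pow_succ']; group
            _ = x * c ^ n * y * x⁻¹ := by rw [ih]; group
            _ = c ^ n * (x * y * x⁻¹) := by
                rw [← mem_centralizer_iff.mp (hBC hx) _ (pow_mem hcA n)]; group
            _ = c ^ (n + 1) * y := by rw [pow_succ, hc]; group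
      have := key r
      rw [mem_centralizer_iff.mp (hBC hy) _ (hpow x hx), mul_inv_cancel_right] at this
      exact right_eq_mul.mp this
    have hc1 : c = 1 := by
      by_contra h1
      exact not_dvd_orderOf hA hcA ((orderOf_eq_prime hcr h1) ▸ dvd_rfl)
    rwa [hc, mul_inv_eq_one, mul_inv_eq_iff_eq_mul] at hc1
  have hB : ¬ p ∣ Nat.card B := by
    refine not_dvd_card_of fun x hx hxo => ?_
    have h1 : x ∈ A := by
      have hcop : (orderOf x).Coprime r :=
        hxo ▸ (Nat.coprime_primes Fact.out hr).mpr (Ne.symm hrp)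
      obtain ⟨m, hm⟩ := exists_pow_eq_self_of_coprime hcop.symm
      rw [← hm]
      exact pow_mem (hpow x hx) m
    exact not_dvd_orderOf hA h1 (hxo ▸ dvd_rfl)
  obtain ⟨x0, hx0, y0, hy0, hxy0⟩ := hnc
  set A' := A.subgroupOf B with hA'
  have hA'c : A' ≤ center B := fun a ha => mem_center_iff.mpr fun g =>
    Subtype.ext (mem_centralizer_iff.mp (hBC g.2) a ha).symm
  haveI : IsCyclic A' := by
    haveI := S.isCyclic A hA hAc
    exact isCyclic_of_injective (subgroupOfEquivOfLe hAB).toMonoidHom (subgroupOfEquivOfLe hAB).injective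
  have hord : ∀ x : B, x ^ r = 1 → x ∈ A' := by
    intro x hx
    rw [mem_subgroupOf]
    -- `A⟨x⟩` is cyclic
    set T := A ⊔ zpowers (x : L) with hT
    have hTc : ∀ a ∈ T, ∀ b ∈ T, a * b = b * a := by
      have h1 : T ≤ centralizer (T : Set L) := by
        have hxA : (x : L) ∈ centralizer (A : Set L) := hBC x.2
        have e : T = closure ((A : Set L) ∪ {(x : L)}) := by
          rw [hT, Subgroup.closure_union, closure_eq, zpowers_eq_closure]
        rw [e, centralizer_closure, closure_le]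
        rintro a (ha | ha)
        · refine mem_centralizer_iff.mpr ?_
          rintro b (hb | hb)
          · exact hAc b hb a ha
          · rw [Set.mem_singleton_iff.mp hb]; exact (mem_centralizer_iff.mp hxA a ha).symm
        · rw [Set.mem_singleton_iff.mp ha]
          refine mem_centralizer_iff.mpr ?_
          rintro b (hb | hb)
          · exact mem_centralizer_iff.mp hxA b hb
          · rw [Set.mem_singleton_iff.mp hb]
      exact fun a ha b hb => mem_centralizer_iff.mp (h1 hb) a ha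
    have hTB : T ≤ B := sup_le hAB (zpowers_le.mpr x.2)
    haveI := S.isCyclic T (fun h => hB (h.trans (card_dvd_of_le hTB))) hTc
    set c := x0 * y0 * x0⁻¹ * y0⁻¹ with hc
    have hcA : c ∈ A := hcomm _ hx0 _ hy0
    have hc1 : c ≠ 1 := fun e => hxy0 (by rwa [hc, mul_inv_eq_one, mul_inv_eq_iff_eq_mul] at e)
    obtain ⟨q, hq⟩ : ∃ q, q = c := ⟨c, rfl⟩
    have hcr : q ^ r = 1 := by
      subst hq
      have key : ∀ n : ℕ, x0 ^ n * y0 * (x0 ^ n)⁻¹ = c ^ n * y0 := by
        intro n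
        induction n with
        | zero => simp
        | succ n ih =>
          calc x0 ^ (n + 1) * y0 * (x0 ^ (n + 1))⁻¹ = x0 * (x0 ^ n * y0 * (x0 ^ n)⁻¹) * x0⁻¹ := by
                rw [pow_succ']; group
            _ = x0 * c ^ n * y0 * x0⁻¹ := by rw [ih]; group
            _ = c ^ n * (x0 * y0 * x0⁻¹) := by
                rw [← mem_centralizer_iff.mp (hBC hx0) _ (pow_mem hcA n)]; group
            _ = c ^ (n + 1) * y0 := by rw [pow_succ, hc]; group
      have := key r
      rw [mem_centralizer_iff.mp (hBC hy0) _ (hpow x0 hx0), mul_inv_cancel_right] at this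
      exact right_eq_mul.mp this
    rw [← hq] at hcA hc1
    by_contra hxn
    have hle : q ∈ T := le_sup_left (b := zpowers (x : L)) hcA
    haveI := Fintype.ofFinite T
    classical
    have hcard := IsCyclic.card_pow_eq_one_le (α := T) (n := r) hr.pos
    have hxo : orderOf (x : L) ∣ r := orderOf_dvd_of_pow_eq_one (by simpa using congrArg Subtype.val hx)
    have hqo : orderOf q = r := by
      haveI := Fact.mk hr
      exact orderOf_eq_prime hcr hc1
    let S0 : Finset T := insert ⟨x, le_sup_right (a := A) (mem_zpowers _)⟩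
      ((Finset.range r).image fun i => (⟨q, hle⟩ : T) ^ i)
    have h1 : S0.card = r + 1 := by
      rw [Finset.card_insert_of_notMem, Finset.card_image_of_injOn, Finset.card_range]
      · intro i hi j hj e
        exact pow_injOn_Iio_orderOf (x := q) (by simpa [hqo] using hi) (by simpa [hqo] using hj)
          (by simpa using congrArg Subtype.val e)
      · intro h
        obtain ⟨i, -, hi⟩ := Finset.mem_image.mp h
        apply hxn
        rw [← show q ^ i = (x : L) by simpa using congrArg Subtype.val hi]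
        exact pow_mem hcA i
    have h2 : S0 ⊆ Finset.univ.filter (fun t => t ^ r = 1) := by
      intro t ht
      simp only [Finset.mem_filter, Finset.mem_univ, true_and, S0, Finset.mem_insert,
        Finset.mem_image] at ht ⊢
      rcases ht with rfl | ⟨i, -, rfl⟩
      · exact Subtype.ext (by simpa using congrArg Subtype.val hx)
      · exact Subtype.ext (by
          push_cast
          rw [← pow_mul, mul_comm, pow_mul, hcr, one_pow])
    have := (Finset.card_le_card h2).trans hcard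
    omega
  have key : ∀ x : B, ∀ y : B, x * y ≠ y * x → r = 2 ∧ ∀ b : B,
      b ∈ A' ∨ x⁻¹ * b ∈ A' ∨ y⁻¹ * b ∈ A' ∨ (x * y)⁻¹ * b ∈ A' := fun x y hxy =>
    class_two_structure A' hA'c hr (fun u v => mem_subgroupOf.mpr (hcomm u u.2 v v.2))
      (fun u => mem_subgroupOf.mpr (hpow u u.2)) hord hxy
  have hne' : (⟨x0, hx0⟩ : B) * ⟨y0, hy0⟩ ≠ ⟨y0, hy0⟩ * ⟨x0, hx0⟩ :=
    fun e => hxy0 (congrArg Subtype.val e)
  refine ⟨(key _ _ hne').1, hB, ⟨x0, hx0, y0, hy0, hxy0⟩, fun x hx y hy hxy b hb => ?_⟩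
  have := (key ⟨x, hx⟩ ⟨y, hy⟩ (fun e => hxy (congrArg Subtype.val e))).2 ⟨b, hb⟩
  simpa [hA', mem_subgroupOf] using this

/-- A normal subgroup of order prime to `p` with commutative quotient. -/
theorem of_commutator_le (C : Subgroup L) [C.Normal] (hC : ¬ p ∣ Nat.card C)
    (hcomm : ∀ x y : L, x * y * x⁻¹ * y⁻¹ ∈ C) :
    Cfsg.HasNormalPComplement p L ∧ ∀ P : Sylow p L, IsMulCommutative (P : Subgroup L) := by
  have hcq : ∀ x y : L, Commute (x : L ⧸ C) y := fun x y => by
    show (x : L ⧸ C) * y = y * x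
    rw [← mul_inv_eq_iff_eq_mul, ← mul_inv_eq_one]
    simpa using (QuotientGroup.eq_one_iff _).mpr (hcomm x y)
  constructor
  · obtain ⟨e, m, hm, hcard⟩ := Nat.exists_eq_pow_mul_and_not_dvd
      (Nat.card_pos (α := L ⧸ C)).ne' p (Fact.out : p.Prime).ne_one
    let N : Subgroup L :=
      { carrier := {x | x ^ m ∈ C}
        one_mem' := by simp
        mul_mem' := fun {x y} hx hy => by
          show (x * y) ^ m ∈ C
          rw [← QuotientGroup.eq_one_iff, QuotientGroup.mk_pow, QuotientGroup.mk_mul,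
            (hcq x y).mul_pow, ← QuotientGroup.mk_pow, ← QuotientGroup.mk_pow,
            (QuotientGroup.eq_one_iff _).mpr hx, (QuotientGroup.eq_one_iff _).mpr hy, one_mul]
        inv_mem' := fun {x} hx => by
          show x⁻¹ ^ m ∈ C
          rw [inv_pow]; exact inv_mem hx }
    haveI : N.Normal := ⟨fun x hx g => by
      show (g * x * g⁻¹) ^ m ∈ C
      rw [conj_pow]; exact Normal.conj_mem ‹C.Normal› _ hx g⟩
    refine Cfsg.Agent.Lib.Transfer.PResidual.hasNormalPComplement_of_normal (N := N) (not_dvd_card_of fun x hx hxo => ?_)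
      fun q => ?_
    · have hcop : (orderOf x).Coprime m := hxo ▸ (Fact.out : p.Prime).coprime_iff_not_dvd.mpr hm
      obtain ⟨t, ht⟩ := exists_pow_eq_self_of_coprime hcop.symm
      have hxC : x ∈ C := by
        have h0 : x ^ m ∈ C := hx
        have := pow_mem h0 t
        rwa [ht] at this
      exact not_dvd_orderOf hC hxC (hxo ▸ dvd_rfl)
    · obtain ⟨x, rfl⟩ := QuotientGroup.mk_surjective q
      refine ⟨e, ?_⟩
      rw [← QuotientGroup.mk_pow, QuotientGroup.eq_one_iff]
      show (x ^ p ^ e) ^ m ∈ C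
      rw [← pow_mul, ← hcard, ← QuotientGroup.eq_one_iff, QuotientGroup.mk_pow, pow_card_eq_one']
  · intro P
    refine ⟨⟨fun x y => Subtype.ext ?_⟩⟩
    have h1 : (x : L) * y * (x : L)⁻¹ * (y : L)⁻¹ ∈ C ⊓ (P : Subgroup L) :=
      ⟨hcomm x y, (x * y * x⁻¹ * y⁻¹ : (P : Subgroup L)).2⟩
    obtain ⟨n, hn⟩ := IsPGroup.iff_card.mp P.isPGroup'
    have h2 : C ⊓ (P : Subgroup L) = ⊥ := inf_eq_bot_of_coprime (by
      rw [hn]
      exact Nat.Coprime.pow_right n ((Fact.out : p.Prime).coprime_iff_not_dvd.mpr hC).symm)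
    rw [h2, mem_bot, mul_inv_eq_one, mul_inv_eq_iff_eq_mul] at h1
    exact h1

theorem Setup.card_le (S : Setup (L := L) (V := V) p) {B : Subgroup L} (hB : ¬ p ∣ Nat.card B) :
    Nat.card B + 1 ≤ Nat.card V := by
  haveI := S.nontriv
  obtain ⟨v, hv⟩ := exists_ne (1 : V)
  let f : Option B → V := fun o => o.elim 1 (fun b => (b : L) • v)
  have hne : ∀ b : L, b • v ≠ 1 := fun b e => hv (MulAction.injective b (e.trans (smul_one b).symm))
  have hf : Function.Injective f := by
    rintro (_ | a) (_ | b) e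
    · rfl
    · exact absurd e.symm (hne b)
    · exact absurd e (hne a)
    · have h1 : ((b : L)⁻¹ * a) • v = v := by
        rw [mul_smul]
        exact inv_smul_eq_iff.mpr e
      have := S.semiregular (not_dvd_orderOf hB (mul_mem (inv_mem b.2) a.2)) hv h1
      rw [inv_mul_eq_one] at this
      exact congrArg some (Subtype.ext this.symm)
  have := Nat.card_le_card_of_injective f hf
  rwa [Finite.card_option] at this

end Cfsg.Agent.Lib.BlocksChars5.GagolaQuot
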